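import Cfsg.Agent.Lib.Local.SLTwoEmb.Basic

/-!
# Axes of the conjugates of the transvection group meet trivially
-/

set_option autoImplicit false

namespace CfsgLib.SLTwoEmb

open Matrix Subgroup CfsgLib.Classical
open scoped MatrixGroups Pointwise

variable {F : Type*} [Field F] {G : Type*} [Group G] [DistribMulAction G (Fin 2 → F)]

/-- Elements fixing `A` pointwise and acting trivially modulo `A`. -/
def transGroup (A : AddSubgroup (Fin 2 → F)) : Subgroup G where
  carrier := {g | (∀ a ∈ A, g • a = a) ∧ ∀ w : Fin 2 → F, g • w - w ∈ A}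
  one_mem' := ⟨fun a _ => one_smul G a, fun w => by simp⟩
  mul_mem' := by
    rintro g h ⟨g1, g2⟩ ⟨h1, h2⟩
    refine ⟨fun a ha => by rw [mul_smul, h1 a ha, g1 a ha], fun w => ?_⟩
    rw [mul_smul, show g • h • w - w = (g • h • w - h • w) + (h • w - w) by abel]
    exact add_mem (g2 _) (h2 _)
  inv_mem' := by
    rintro g ⟨g1, g2⟩
    refine ⟨fun a ha => by rw [inv_smul_eq_iff, g1 a ha], fun w => ?_⟩
    have h := g2 (g⁻¹ • w)
    rw [smul_inv_smul] at h
    rw [← neg_sub]
    exact neg_mem h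

theorem mem_transGroup {A : AddSubgroup (Fin 2 → F)} {g : G} :
    g ∈ transGroup A ↔ (∀ a ∈ A, g • a = a) ∧ ∀ w : Fin 2 → F, g • w - w ∈ A := Iff.rfl

theorem mem_transGroup_smul {A : AddSubgroup (Fin 2 → F)} {g x : G} :
    x ∈ transGroup (g • A) ↔ g⁻¹ * x * g ∈ transGroup A := by
  simp only [mem_transGroup, AddSubgroup.mem_pointwise_smul_iff_inv_smul_mem]
  constructor
  · rintro ⟨h1, h2⟩
    refine ⟨fun a ha => ?_, fun w => ?_⟩
    · rw [mul_smul, mul_smul, h1 (g • a) (by rwa [inv_smul_smul]), inv_smul_smul]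
    · have h := h2 (g • w)
      rwa [smul_sub, inv_smul_smul, ← mul_smul, ← mul_smul] at h
  · rintro ⟨h1, h2⟩
    refine ⟨fun a ha => ?_, fun w => ?_⟩
    · have h := h1 _ ha
      rw [mul_smul, mul_smul, smul_inv_smul] at h
      exact smul_left_cancel g⁻¹ h
    · have h := h2 (g⁻¹ • w)
      rwa [mul_smul, mul_smul, smul_inv_smul, ← smul_sub] at h

theorem transGroup_smul_add {A : AddSubgroup (Fin 2 → F)} {g h : G} (hg : g ∈ transGroup A)
    (hh : h ∈ transGroup A) (w : Fin 2 → F) :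
    (g * h) • w - w = (g • w - w) + (h • w - w) := by
  have := hg.1 _ (hh.2 w)
  rw [smul_sub] at this
  rw [mul_smul, ← this]; abel

theorem transGroup_quad {A : AddSubgroup (Fin 2 → F)} {g : G} (hg : g ∈ transGroup A) (w : Fin 2 → F) :
    g • (g • w - w) = g • w - w := hg.1 _ (hg.2 w)

variable [FaithfulSMul G (Fin 2 → F)]

theorem transGroup_comm {A : AddSubgroup (Fin 2 → F)} {g h : G} (hg : g ∈ transGroup A)
    (hh : h ∈ transGroup A) : Commute g h :=
  eq_of_smul_eq_smul (α := Fin 2 → F) fun w => by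
    refine sub_left_injective (b := w) ?_
    show (g * h) • w - w = (h * g) • w - w
    rw [transGroup_smul_add hg hh, transGroup_smul_add hh hg, add_comm]

theorem transGroup_pow {p : ℕ} [CharP F p] {A : AddSubgroup (Fin 2 → F)} {g : G}
    (hg : g ∈ transGroup A) : g ^ p = 1 := by
  refine eq_of_smul_eq_smul (α := Fin 2 → F) fun w => ?_
  have h : ∀ n : ℕ, g ^ n • w - w = (n : F) • (g • w - w) := by
    intro n
    induction n with
    | zero => simp
    | succ n ih =>
      rw [pow_succ, transGroup_smul_add (pow_mem hg n) hg, ih, Nat.cast_succ, add_smul, one_smul]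
  have := h p
  rwa [CharP.cast_eq_zero, zero_smul, sub_eq_zero, ← one_smul G w, ← mul_smul, mul_one] at this

variable [Fintype F] [Finite G] {p : ℕ} [Fact p.Prime] [CharP F p]

namespace Emb

variable (D : Emb p F G)

/-- The axis of `U`. -/
def axis0 (F : Type*) [Field F] : AddSubgroup (Fin 2 → F) :=
  (Pi.evalAddMonoidHom (fun _ => F) 1).ker

omit [Fintype F] in
theorem mem_axis0 {w : Fin 2 → F} : w ∈ axis0 F ↔ w 1 = 0 := Iff.rfl

/-- The axes: the translates of the axis of `U`. -/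
def Axis (A : AddSubgroup (Fin 2 → F)) : Prop := ∃ g : G, A = g • axis0 F

omit [FaithfulSMul G (Fin 2 → F)] [Fintype F] [Finite G] in
theorem Axis.smul {A : AddSubgroup (Fin 2 → F)} (h : Axis (G := G) A) (g : G) :
    Axis (G := G) (g • A) := by
  obtain ⟨k, rfl⟩ := h
  exact ⟨g * k, (mul_smul _ _ _).symm⟩

omit [FaithfulSMul G (Fin 2 → F)] [Finite G] [Fintype F] [Fact p.Prime] [CharP F p] in
theorem U_le_trans : D.U ≤ transGroup (axis0 F) := by
  intro g hg
  obtain ⟨t, rfl⟩ := D.mem_U.1 hg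
  refine ⟨fun a ha => ?_, fun w => ?_⟩
  · rw [D.smul_uElt]
    funext i; fin_cases i <;> simp [mem_axis0.1 ha]
  · rw [D.smul_uElt, mem_axis0, add_sub_cancel_left]; rfl

/-- A `p`-subgroup is conjugate into `P`. -/
theorem exists_conj {E : Subgroup G} (hE : IsPGroup p E) :
    ∃ g : G, ∀ x ∈ E, g⁻¹ * x * g ∈ (D.P : Subgroup G) := by
  obtain ⟨Q, hQ⟩ := hE.exists_le_sylow
  obtain ⟨g, rfl⟩ := MulAction.exists_smul_eq G D.P Q
  refine ⟨g, fun x hx => ?_⟩
  have h := hQ hx
  rw [Sylow.coe_subgroup_smul, mem_pointwise_smul_iff_inv_smul_mem] at h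
  simpa using h

omit [Fintype F] [Finite G] in
theorem isPGroup_trans (A : AddSubgroup (Fin 2 → F)) : IsPGroup p (transGroup (G := G) A) := by
  rintro ⟨g, hg⟩
  exact ⟨1, Subtype.ext (by rw [pow_one]; exact transGroup_pow hg)⟩

/-- Two subgroups conjugate by `g` have the same order. -/
theorem card_trans_smul (A : AddSubgroup (Fin 2 → F)) (g : G) :
    Nat.card (transGroup (G := G) (g • A)) = Nat.card (transGroup (G := G) A) := by
  refine Nat.card_congr
    { toFun := fun x => ⟨g⁻¹ * x * g, mem_transGroup_smul.1 x.2⟩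
      invFun := fun x => ⟨g * x * g⁻¹, mem_transGroup_smul.2 (by simp [mul_assoc])⟩
      left_inv := fun x => Subtype.ext (by group)
      right_inv := fun x => Subtype.ext (by group) }

theorem eq_U_of_trans (hG : D.Good) {A : AddSubgroup (Fin 2 → F)}
    (hle : transGroup (G := G) A ≤ (D.P : Subgroup G))
    (hc : Fintype.card F ≤ Nat.card (transGroup (G := G) A)) : transGroup A = D.U :=
  D.eq_U hG hle (fun _ hx => transGroup_pow hx) (fun _ hx _ hy => transGroup_comm hx hy)
    (fun _ hx w => transGroup_quad hx w) hc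

theorem trans_axis0 (hG : D.Good) : transGroup (G := G) (axis0 F) = D.U := by
  obtain ⟨g, hg⟩ := D.exists_conj (isPGroup_trans (p := p) (axis0 F))
  have h1 : Fintype.card F ≤ Nat.card (transGroup (G := G) (axis0 F)) :=
    D.card_U ▸ Subgroup.card_le_of_le (D.U_le_trans)
  have h2 : transGroup (g⁻¹ • axis0 F) = D.U := by
    refine D.eq_U_of_trans hG (fun x hx => ?_) (by rw [card_trans_smul]; exact h1)
    have h := hg _ (mem_transGroup_smul.1 hx)
    simpa [mul_assoc] using h
  refine (Subgroup.eq_of_le_of_card_ge D.U_le_trans ?_).symm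
  rw [← card_trans_smul (G := G) (axis0 F) g⁻¹, h2]

theorem card_trans (hG : D.Good) {A : AddSubgroup (Fin 2 → F)} (hA : Axis (G := G) A) :
    Nat.card (transGroup (G := G) A) = Fintype.card F := by
  obtain ⟨g, rfl⟩ := hA
  rw [card_trans_smul, D.trans_axis0 hG, D.card_U]

theorem fix_iff (hG : D.Good) {A : AddSubgroup (Fin 2 → F)} (hA : Axis (G := G) A) {u : G}
    (hu : u ∈ transGroup A) (hu1 : u ≠ 1) (w : Fin 2 → F) : u • w = w ↔ w ∈ A := by
  refine ⟨fun h => ?_, hu.1 w⟩
  obtain ⟨g, rfl⟩ := hA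
  have h' := mem_transGroup_smul.1 hu
  rw [D.trans_axis0 hG] at h'
  obtain ⟨t, ht⟩ := D.mem_U.1 h'
  have ht0 : t ≠ 0 := fun e => hu1 (by
    rw [e, show (uElt (0 : F)) = 1 from Matrix.SpecialLinearGroup.transvection_coeff_zero _, map_one] at ht
    have : u = g * (g⁻¹ * u * g) * g⁻¹ := by group
    rw [this, ← ht]; group)
  rw [AddSubgroup.mem_pointwise_smul_iff_inv_smul_mem, mem_axis0]
  have h2 : (g⁻¹ * u * g) • (g⁻¹ • w) = g⁻¹ • w := by
    rw [mul_smul, mul_smul, smul_inv_smul, h]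
  rw [← ht, D.smul_uElt, add_eq_left] at h2
  have h3 : t * (g⁻¹ • w) 1 = 0 := by simpa using congrFun h2 0
  exact (mul_eq_zero.1 h3).resolve_left ht0

theorem axis_eq (hG : D.Good) {A B : AddSubgroup (Fin 2 → F)} (hA : Axis (G := G) A)
    (hB : Axis (G := G) B) {u : G} (hu : u ∈ transGroup A) (hu' : u ∈ transGroup B)
    (hu1 : u ≠ 1) : A = B := by
  ext w
  rw [← D.fix_iff hG hA hu hu1, ← D.fix_iff hG hB hu' hu1]

theorem axis0_axis : Axis (G := G) (axis0 F) := ⟨1, (one_smul G (axis0 F)).symm⟩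

theorem eq_axis0 (hG : D.Good) {A : AddSubgroup (Fin 2 → F)} (hA : Axis (G := G) A)
    (h : transGroup (G := G) A ≤ (D.P : Subgroup G)) : A = axis0 F := by
  have e := D.eq_U_of_trans hG h (D.card_trans hG hA).ge
  have h1 : D.ι (uElt 1) ∈ D.U := D.mem_U.2 ⟨1, rfl⟩
  refine D.axis_eq hG hA axis0_axis (e ▸ h1) ((D.trans_axis0 hG).symm ▸ h1) fun h2 => ?_
  rw [← map_one D.ι] at h2
  have h3 := congrArg (fun s : SL(2, F) => (s : Matrix (Fin 2) (Fin 2) F) 0 1) (D.injective h2)
  simp [uElt_val] at h3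

theorem U_normal (hG : D.Good) {x t : G} (hx : x ∈ (D.P : Subgroup G)) (ht : t ∈ D.U) :
    x * t * x⁻¹ ∈ D.U := by
  have hA : Axis (G := G) (x • axis0 F) := ⟨x, rfl⟩
  have hle : transGroup (G := G) (x • axis0 F) ≤ (D.P : Subgroup G) := by
    intro y hy
    have h := mem_transGroup_smul.1 hy
    rw [D.trans_axis0 hG] at h
    have h' := mul_mem (mul_mem hx (D.le h)) (inv_mem hx)
    simpa [mul_assoc] using h'
  have e : transGroup (G := G) (x • axis0 F) = D.U :=
    D.eq_U_of_trans hG hle (D.card_trans hG hA).ge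
  rw [← e, mem_transGroup_smul, D.trans_axis0 hG]
  simpa [mul_assoc] using ht

/-- A transvection lying in `P` has the axis of `U`. -/
theorem core (hG : D.Good) {A : AddSubgroup (Fin 2 → F)} (hA : Axis (G := G) A) {u : G}
    (hu : u ∈ transGroup A) (hu1 : u ≠ 1) (hP : u ∈ (D.P : Subgroup G)) : A = axis0 F := by
  classical
  have hlin : Semi u (RingEquiv.refl F) → A = axis0 F := fun h =>
    D.axis_eq hG hA axis0_axis hu ((D.trans_axis0 hG).symm ▸ D.mem_U_of_linear hP h) hu1
  by_cases hp : p = 2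
  swap
  · exact hlin (D.linear_of_quad hp hP (transGroup_quad hu))
  rcases id hG with h | h | h
  · exact absurd hp h
  swap
  · exact hlin (h u hP)
  by_contra hne
  have hu2 : u ^ 2 = 1 := hp ▸ transGroup_pow hu
  set T : Subgroup G := D.U ⊓ centralizer ({u} : Set G) with hT
  have hmemT : ∀ t, t ∈ T ↔ t ∈ D.U ∧ Commute t u := fun t => by
    rw [hT, mem_inf, mem_centralizer_singleton_iff]; rfl
  have htt : ∀ t ∈ D.U, t * t = 1 := fun t ht => by
    have := transGroup_pow (p := p) (D.U_le_trans ht)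
    rwa [hp, sq] at this
  have huu : u * u = 1 := by rw [← sq, hu2]
  have huinv : u⁻¹ = u := inv_eq_of_mul_eq_one_right huu
  -- |T|² ≥ q
  have hTq : Fintype.card F ≤ Nat.card T * Nat.card T := by
    have hn : ∀ t : ↥D.U, u * t * u ∈ D.U := fun t => by
      have h := D.U_normal hG hP t.2
      rwa [huinv] at h
    let f : ↥D.U →* ↥D.U := MonoidHom.mk' (fun t => t * ⟨u * t * u, hn t⟩) fun s t => by
      apply Subtype.ext
      have e : u * ((s : G) * t) * u = (u * s * u) * (u * t * u) := by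
        rw [show (u * s * u) * (u * t * u) = u * s * (u * u) * t * u by group, huu]; group
      have hc : (t : G) * (u * s * u) = (u * s * u) * t := D.commute_U t.2 (hn s)
      show (s : G) * t * (u * ((s : G) * t) * u) = (s : G) * (u * s * u) * (t * (u * t * u))
      rw [e, show (s : G) * t * ((u * s * u) * (u * t * u)) = s * ((t : G) * (u * s * u)) * (u * t * u) by group,
        hc]; group
    rw [← D.card_U, ← f.ker.card_mul_index, Subgroup.index_ker]
    refine Nat.mul_le_mul (Nat.card_le_card_of_injective (fun t => ⟨t.1.1, ?_⟩) ?_)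
      (Nat.card_le_card_of_injective (fun t => ⟨t.1.1, ?_⟩) ?_)
    · refine (hmemT _).2 ⟨t.1.2, ?_⟩
      have h : (t.1 : G) * (u * t.1 * u) = 1 := congrArg Subtype.val t.2
      have h' : u * (t.1 : G) * u = t.1 := by
        rw [← inv_eq_of_mul_eq_one_right h, inv_eq_of_mul_eq_one_right (htt _ t.1.2)]
      show (t.1 : G) * u = u * t.1
      calc (t.1 : G) * u = u * t.1 * u * u := by rw [h']
        _ = u * t.1 := by rw [mul_assoc, huu, mul_one]
    · exact fun a b h => Subtype.ext (Subtype.ext (congrArg Subtype.val h :))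
    · obtain ⟨s, hs⟩ := t.2
      refine (hmemT _).2 ⟨t.1.2, ?_⟩
      have e : (t.1 : G) = (s : G) * (u * s * u) := (congrArg Subtype.val hs).symm
      rw [e]
      show (s : G) * (u * s * u) * u = u * ((s : G) * (u * s * u))
      have hc : (s : G) * (u * s * u) = (u * s * u) * s := D.commute_U s.2 (hn s)
      conv_rhs => rw [hc, ← mul_assoc, ← mul_assoc, ← mul_assoc, huu, one_mul]
      group
      rw [mul_assoc, mul_assoc, mul_assoc, mul_assoc]
      simp [huu, mul_assoc]
    · exact fun a b h => Subtype.ext (Subtype.ext (congrArg Subtype.val h :))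
  -- T normalizes the transvection group of A
  have hTn : ∀ t ∈ T, t • A = A := by
    intro t ht
    obtain ⟨-, htc⟩ := (hmemT t).1 ht
    ext w
    rw [AddSubgroup.mem_pointwise_smul_iff_inv_smul_mem, ← D.fix_iff hG hA hu hu1,
      ← D.fix_iff hG hA hu hu1, ← mul_smul, (htc.inv_left).symm.eq, mul_smul, smul_left_cancel_iff]
  have hTp : IsPGroup p T := D.P.2.to_le (inf_le_left.trans D.le)
  have hTA : T ≤ normalizer ((transGroup (G := G) A : Subgroup G) : Set G) := by
    intro t ht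
    rw [mem_normalizer_iff]
    intro y
    have e : t • A = A := hTn t ht
    constructor
    · intro hy
      rw [← e, mem_transGroup_smul]; simpa [mul_assoc] using hy
    · intro hy
      rw [← e, mem_transGroup_smul] at hy; simpa [mul_assoc] using hy
  obtain ⟨h', hh⟩ := D.exists_conj (hTp.to_sup_of_normal_right' (isPGroup_trans (p := p) A) hTA)
  have hAx : h'⁻¹ • A = axis0 F := by
    refine D.eq_axis0 hG (hA.smul _) fun y hy => ?_
    have h1 := hh _ (mem_sup_right (mem_transGroup_smul.1 hy))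
    simpa [mul_assoc] using h1
  have hsemi : ∀ t : ↥T, ∃ σ : F ≃+* F, Semi (h'⁻¹ * t * h') σ := fun t =>
    D.exists_semi (hh _ (mem_sup_left t.2))
  choose s hs using hsemi
  have hsame : ∀ a b : ↥T, s a = s b → a = b := by
    intro a b hab
    by_contra hne'
    have h1 := D.inv_mul_mem (hh _ (mem_sup_left a.2)) (hh _ (mem_sup_left b.2)) (hs a) (hab ▸ hs b)
    rw [← D.trans_axis0 hG, ← hAx, mem_transGroup_smul] at h1
    have h2 : (a : G)⁻¹ * b ∈ transGroup A := by simpa [mul_assoc] using h1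
    have h3 : (a : G)⁻¹ * b ∈ D.U :=
      mul_mem (inv_mem ((hmemT _).1 a.2).1) ((hmemT _).1 b.2).1
    exact hne (D.axis_eq hG hA axis0_axis h2 ((D.trans_axis0 hG).symm ▸ h3) fun e =>
      hne' (Subtype.ext (inv_mul_eq_one.1 e)))
  have hinv : ∀ (a : ↥T) (c : F), s a (s a c) = c := fun a => by
    refine semi_invol ?_ (hs a)
    rw [sq, show h'⁻¹ * (a : G) * h' * (h'⁻¹ * a * h') = h'⁻¹ * ((a : G) * a) * h' by group,
      htt _ ((hmemT _).1 a.2).1]
    group
  have hT2 : Nat.card T ≤ 2 := by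
    rw [show 2 = Nat.card Bool by simp]
    refine Nat.card_le_card_of_injective (fun a => decide (s a = RingEquiv.refl F)) fun a b hab => ?_
    refine hsame a b ?_
    by_cases ha : s a = RingEquiv.refl F
    · simp only [ha, decide_true] at hab
      rw [ha, of_decide_eq_true hab.symm]
    · simp only [ha, decide_false] at hab
      exact invol_unique (hinv a) (hinv b) ha (of_decide_eq_false hab.symm)
  have := hTq.trans (Nat.mul_le_mul hT2 hT2)
  omega

/-- A transvection fixes no other axis. -/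
theorem no_stab (hG : D.Good) {A B : AddSubgroup (Fin 2 → F)} (hA : Axis (G := G) A)
    (hB : Axis (G := G) B) {u : G} (hu : u ∈ transGroup A) (hu1 : u ≠ 1) (hfix : u • B = B) :
    A = B := by
  have hn : zpowers u ≤ normalizer ((transGroup (G := G) B : Subgroup G) : Set G) := by
    rw [zpowers_le, mem_normalizer_iff]
    intro y
    constructor
    · intro hy
      rw [← hfix, mem_transGroup_smul]; simpa [mul_assoc] using hy
    · intro hy
      rw [← hfix, mem_transGroup_smul] at hy; simpa [mul_assoc] using hy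
  obtain ⟨g, hg⟩ := D.exists_conj (((isPGroup_trans (p := p) A).to_le (zpowers_le.2 hu)).to_sup_of_normal_right'
    (isPGroup_trans (p := p) B) hn)
  have hB0 : g⁻¹ • B = axis0 F := by
    refine D.eq_axis0 hG (hB.smul _) fun y hy => ?_
    have h1 := hg _ (mem_sup_right (mem_transGroup_smul.1 hy))
    simpa [mul_assoc] using h1
  have hu' : g⁻¹ * u * g ∈ transGroup (g⁻¹ • A) := by
    rw [mem_transGroup_smul]; simpa [mul_assoc] using hu
  have hA0 := D.core hG (hA.smul _) hu'
    (fun e => hu1 (by rw [show u = g * (g⁻¹ * u * g) * g⁻¹ by group, e]; group))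
    (hg _ (mem_sup_left (mem_zpowers u)))
  exact smul_left_cancel g⁻¹ (hA0.trans hB0.symm)

/-- Distinct axes meet trivially. -/
theorem inter_eq_bot (hG : D.Good) {A B : AddSubgroup (Fin 2 → F)} (hA : Axis (G := G) A)
    (hB : Axis (G := G) B) (hAB : A ≠ B) : A ⊓ B = ⊥ := by
  classical
  haveI : Finite (AddSubgroup (Fin 2 → F)) :=
    Finite.of_injective (fun S => (S : Set (Fin 2 → F))) SetLike.coe_injective
  by_contra hne
  obtain ⟨⟨A', B'⟩, ⟨hA', hB', hAB', hne'⟩, hmax⟩ := Set.exists_max_image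
    {x : AddSubgroup (Fin 2 → F) × AddSubgroup (Fin 2 → F) |
      Axis (G := G) x.1 ∧ Axis (G := G) x.2 ∧ x.1 ≠ x.2 ∧ x.1 ⊓ x.2 ≠ ⊥}
    (fun x => Nat.card ↥(x.1 ⊓ x.2)) (Set.toFinite _) ⟨(A, B), hA, hB, hAB, hne⟩
  clear hne hAB hA hB A B
  dsimp only at hA' hB' hAB' hne'
  wlog hle : ¬ B' ≤ A' generalizing A' B'
  · rw [not_not] at hle
    refine this B' A' (fun x hx => ?_) hB' hA' hAB'.symm (by rwa [inf_comm])
      fun h => hAB' (le_antisymm h hle)
    dsimp only
    rw [inf_comm B' A']; exact hmax x hx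
  obtain ⟨b, hbB, hbA⟩ := SetLike.not_le_iff_exists.1 hle
  obtain ⟨d, hd, hd0⟩ := (AddSubgroup.bot_or_exists_ne_zero _).resolve_left hne'
  obtain ⟨g, hgA⟩ := id hA'
  have hb1 : (g⁻¹ • b) 1 ≠ 0 := fun h => hbA (by
    rw [hgA, AddSubgroup.mem_pointwise_smul_iff_inv_smul_mem]; exact h)
  have hd1 : (g⁻¹ • d) 1 = 0 := by
    have h := (AddSubgroup.mem_inf.1 hd).1
    rw [hgA, AddSubgroup.mem_pointwise_smul_iff_inv_smul_mem] at h
    exact h
  set u := g * D.ι (uElt ((g⁻¹ • d) 0 / (g⁻¹ • b) 1)) * g⁻¹ with hu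
  have hub : u • b = b + d := by
    rw [hu, mul_smul, mul_smul, D.smul_uElt, div_mul_cancel₀ _ hb1, smul_add, smul_inv_smul]
    congr 1
    rw [smul_eq_iff_eq_inv_smul]
    funext i; fin_cases i <;> simp [hd1]
  have hu1 : u ≠ 1 := fun h => by
    rw [h, one_smul] at hub
    exact hd0 (add_eq_left.1 hub.symm)
  have huA : u ∈ transGroup A' := by
    rw [hgA, mem_transGroup_smul]
    apply D.U_le_trans
    rw [hu]; simpa [mul_assoc] using D.mem_U.2 ⟨_, rfl⟩
  have hne2 : B' ≠ u • B' := fun h => hAB' (D.no_stab hG hA' hB' huA hu1 h.symm)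
  have hsub : A' ⊓ B' ≤ B' ⊓ u • B' := by
    intro x hx
    obtain ⟨hxA, hxB⟩ := AddSubgroup.mem_inf.1 hx
    refine AddSubgroup.mem_inf.2 ⟨hxB, ?_⟩
    rw [AddSubgroup.mem_pointwise_smul_iff_inv_smul_mem,
      (inv_mem huA : u⁻¹ ∈ transGroup A').1 x hxA]
    exact hxB
  have hbd : b + d ∈ B' ⊓ u • B' := AddSubgroup.mem_inf.2 ⟨add_mem hbB (AddSubgroup.mem_inf.1 hd).2, by
    rw [← hub]; exact AddSubgroup.smul_mem_pointwise_smul _ _ _ hbB⟩
  have hne3 : B' ⊓ u • B' ≠ ⊥ := fun h => hne' (le_bot_iff.1 (hsub.trans h.le))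
  have hlt := hmax (B', u • B') ⟨hB', hB'.smul u, hne2, hne3⟩
  have heq := AddSubgroup.eq_of_le_of_card_ge hsub hlt
  exact hbA (by
    rw [← heq] at hbd
    simpa using sub_mem (AddSubgroup.mem_inf.1 hbd).1 (AddSubgroup.mem_inf.1 hd).1)

omit [FaithfulSMul G (Fin 2 → F)] [Finite G] [Fintype F] [Fact p.Prime] [CharP F p] in
theorem exists_first_col (v : Fin 2 → F) (hv : v ≠ 0) :
    ∃ s : SL(2, F), D.ι s • (![1, 0] : Fin 2 → F) = v := by
  have hdet : ∀ a b : F, ((a ≠ 0 ∨ b ≠ 0) →
      ∃ s : SL(2, F), (s : Matrix (Fin 2) (Fin 2) F) *ᵥ ![1, 0] = ![a, b]) := by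
    intro a b hab
    by_cases ha : a = 0
    · have hb := hab.resolve_left (not_not.2 ha)
      refine ⟨⟨!![a, -b⁻¹; b, 0], by simp [det_fin_two, hb]⟩, ?_⟩
      funext i; fin_cases i <;> simp [Matrix.mulVec, dotProduct, Fin.sum_univ_two]
    · refine ⟨⟨!![a, 0; b, a⁻¹], by simp [det_fin_two, ha]⟩, ?_⟩
      funext i; fin_cases i <;> simp [Matrix.mulVec, dotProduct, Fin.sum_univ_two]
  obtain ⟨s, hs⟩ := hdet (v 0) (v 1) (by
    by_contra h
    simp only [not_or, not_not] at h
    exact hv (by funext i; fin_cases i <;> simp [h]))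
  exact ⟨s, by rw [D.act, hs]; funext i; fin_cases i <;> simp⟩

/-- **The natural `SL₂(F)` is normal outside the exceptional case.** -/
theorem range_normal (hG : D.Good) : D.ι.range.Normal := by
  have hU : ∀ g : G, ∀ t ∈ D.U, g * t * g⁻¹ ∈ D.ι.range := by
    intro g t ht
    have hv : g • (![1, 0] : Fin 2 → F) ≠ 0 := fun h => by
      have h' : (![1, 0] : Fin 2 → F) = 0 := by
        rw [← inv_smul_smul g (![1, 0] : Fin 2 → F), h, smul_zero]
      simpa using congrFun h' 0
    obtain ⟨s, hs⟩ := D.exists_first_col _ hv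
    have hax : g • axis0 F = D.ι s • axis0 F := by
      by_contra hne
      have h := D.inter_eq_bot hG ⟨g, rfl⟩ ⟨D.ι s, rfl⟩ hne
      have h10 : (![1, 0] : Fin 2 → F) ∈ axis0 F := by rw [mem_axis0]; rfl
      have hm : g • (![1, 0] : Fin 2 → F) ∈ g • axis0 F ⊓ D.ι s • axis0 F :=
        ⟨AddSubgroup.smul_mem_pointwise_smul _ _ _ h10,
          by rw [← hs]; exact AddSubgroup.smul_mem_pointwise_smul _ _ _ h10⟩
      rw [h, AddSubgroup.mem_bot] at hm
      exact hv hm
    have h1 : g * t * g⁻¹ ∈ transGroup (g • axis0 F) := by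
      rw [mem_transGroup_smul]; simpa [mul_assoc] using D.U_le_trans ht
    rw [hax, mem_transGroup_smul, D.trans_axis0 hG] at h1
    have h2 := mul_mem (mul_mem (⟨s, rfl⟩ : D.ι s ∈ D.ι.range) (D.U_le_range h1))
      (inv_mem (⟨s, rfl⟩ : D.ι s ∈ D.ι.range))
    simpa [mul_assoc] using h2
  refine ⟨fun x hx g => ?_⟩
  obtain ⟨a, rfl⟩ := hx
  let w : SL(2, F) := ⟨!![0, -1; 1, 0], by simp [det_fin_two]⟩
  have htop := uSL_sup_conj_eq_top (g := w) (by simp [w])
  have hle : uSL F ⊔ MulAut.conj w • uSL F ≤ D.ι.range.comap ((MulAut.conj g).toMonoidHom.comp D.ι) := by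
    refine sup_le (fun b hb => hU g _ ⟨b, hb, rfl⟩) ?_
    rintro _ ⟨b, hb, rfl⟩
    show g * D.ι (w * b * w⁻¹) * g⁻¹ ∈ D.ι.range
    rw [map_mul, map_mul, map_inv]
    have := hU (g * D.ι w) _ ⟨b, hb, rfl⟩
    simpa [mul_assoc] using this
  rw [htop] at hle
  exact hle (mem_top a)

end Emb

end CfsgLib.SLTwoEmb
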