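import Cfsg.Agent.Lib.Local.SLTwoEmb.Semi

/-!
# The Sylow subgroup of a group with an embedded natural `SL₂(F)`
-/

set_option autoImplicit false

namespace CfsgLib.SLTwoEmb

open Matrix Subgroup CfsgLib.Classical
open scoped MatrixGroups

/-- A natural `SL₂(F)` in a linear group `G` whose normalizer contains a Sylow `p`-subgroup. -/
structure Emb (p : ℕ) (F : Type*) [Field F] (G : Type*) [Group G]
    [DistribMulAction G (Fin 2 → F)] where
  ι : SL(2, F) →* G
  act : ∀ (s : SL(2, F)) (w : Fin 2 → F), ι s • w = (s : Matrix (Fin 2) (Fin 2) F) *ᵥ w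
  P : Sylow p G
  le : (uSL F).map ι ≤ (P : Subgroup G)
  nrm : (P : Subgroup G) ≤ normalizer (ι.range : Set G)

variable {F : Type*} [Field F] [Fintype F] {G : Type*} [Group G] [DistribMulAction G (Fin 2 → F)]
  [FaithfulSMul G (Fin 2 → F)] {p : ℕ} [Fact p.Prime] [CharP F p]

namespace Emb

variable (D : Emb p F G)

/-- The transvection group of `L` inside the Sylow subgroup. -/
def U : Subgroup G := (uSL F).map D.ι

omit [Fintype F] [Fact p.Prime] [CharP F p] in
theorem injective : Function.Injective D.ι := by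
  intro a b h
  refine Subtype.ext (Matrix.ext fun i j => ?_)
  have h' : (a : Matrix (Fin 2) (Fin 2) F) *ᵥ Pi.single j 1 = (b : Matrix (Fin 2) (Fin 2) F) *ᵥ Pi.single j 1 := by
    rw [← D.act, ← D.act, h]
  simpa [Matrix.mulVec_single] using congrFun h' i

omit [Fintype F] [FaithfulSMul G (Fin 2 → F)] [Fact p.Prime] [CharP F p] in
theorem smul_uElt (t : F) (w : Fin 2 → F) : D.ι (uElt t) • w = w + ![t * w 1, 0] := by
  rw [D.act]
  funext i; fin_cases i <;> simp [uElt_val, Matrix.mulVec, dotProduct, Fin.sum_univ_two]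

omit [Fintype F] [FaithfulSMul G (Fin 2 → F)] [Fact p.Prime] [CharP F p] in
theorem mem_U {g : G} : g ∈ D.U ↔ ∃ t, D.ι (uElt t) = g := by
  constructor
  · rintro ⟨_, ⟨t, rfl⟩, rfl⟩; exact ⟨t, rfl⟩
  · rintro ⟨t, rfl⟩; exact ⟨_, ⟨t, rfl⟩, rfl⟩

omit [Fact p.Prime] [CharP F p] in
theorem card_U : Nat.card D.U = Fintype.card F := by
  rw [U, Subgroup.card_map_of_injective D.injective, card_uSL, Nat.card_eq_fintype_card]

omit [Fintype F] [FaithfulSMul G (Fin 2 → F)] [Fact p.Prime] [CharP F p] in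
theorem commute_U {g h : G} (hg : g ∈ D.U) (hh : h ∈ D.U) : Commute g h := by
  obtain ⟨s, rfl⟩ := D.mem_U.1 hg
  obtain ⟨t, rfl⟩ := D.mem_U.1 hh
  show _ * _ = _ * _
  rw [← map_mul, ← map_mul, ← uElt_add, ← uElt_add, add_comm]

omit [Fintype F] [FaithfulSMul G (Fin 2 → F)] [Fact p.Prime] [CharP F p] in
theorem semi_range {g : G} (hg : g ∈ D.ι.range) : Semi g (RingEquiv.refl F) := by
  obtain ⟨s, rfl⟩ := hg
  intro c w
  rw [D.act, D.act, Matrix.mulVec_smul]; rfl

omit [Fintype F] [FaithfulSMul G (Fin 2 → F)] [Fact p.Prime] [CharP F p] in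
theorem U_le_range : D.U ≤ D.ι.range := map_le_range _ _

omit [FaithfulSMul G (Fin 2 → F)] [Fact p.Prime] [CharP F p] in
theorem exists_semi {g : G} (hg : g ∈ (D.P : Subgroup G)) : ∃ σ : F ≃+* F, Semi g σ :=
  SLTwoEmb.exists_semi D.ι D.act (D.nrm hg)

/-- A linear element of `P` lies in `U`. -/
theorem mem_U_of_linear [Finite G] {x : G} (hx : x ∈ (D.P : Subgroup G))
    (hl : Semi x (RingEquiv.refl F)) : x ∈ D.U := by
  classical
  have key : ∀ y ∈ (D.P : Subgroup G), Semi y (RingEquiv.refl F) → y ∈ D.ι.range := by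
    intro y hy hyl
    let f : (Fin 2 → F) →ₗ[F] (Fin 2 → F) :=
      { toFun := fun w => y • w
        map_add' := fun a b => smul_add y a b
        map_smul' := fun c w => hyl c w }
    set M := LinearMap.toMatrix' f with hM
    have hMw : ∀ w, M *ᵥ w = y • w := fun w => by
      rw [hM, ← Matrix.toLin'_apply, Matrix.toLin'_toMatrix']; rfl
    obtain ⟨k, hk⟩ := D.P.2 ⟨y, hy⟩
    have hk' : y ^ (p ^ k) = 1 := by simpa using congrArg Subtype.val hk
    have hpow : ∀ n w, (M ^ n) *ᵥ w = y ^ n • w := by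
      intro n
      induction n with
      | zero => intro w; simp
      | succ n ih => intro w; rw [pow_succ, ← Matrix.mulVec_mulVec, ih, hMw, pow_succ, mul_smul]
    have hM1 : M ^ (p ^ k) = 1 := by
      refine Matrix.ext_of_mulVec_single fun j => ?_
      rw [hpow, hk', one_smul, Matrix.one_mulVec]
    have hd : M.det = 1 := by
      have h := congrArg Matrix.det hM1
      rw [Matrix.det_pow, Matrix.det_one] at h
      haveI : ExpChar F p := ExpChar.prime Fact.out
      exact iterateFrobenius_inj F p k (by simpa [iterateFrobenius_def] using h)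
    refine ⟨(⟨M, hd⟩ : SL(2, F)), eq_of_smul_eq_smul (α := Fin 2 → F) fun w => ?_⟩
    refine (D.act (⟨M, hd⟩ : SL(2, F)) w).trans ?_; exact hMw w
  obtain ⟨s, rfl⟩ := key x hx hl
  obtain ⟨S, hS⟩ := exists_sylow_uSL (F := F) p
  have hle : uSL F ≤ (D.P : Subgroup G).comap D.ι := fun a ha => D.le ⟨a, ha, rfl⟩
  have hp : IsPGroup p ((D.P : Subgroup G).comap D.ι) := by
    rintro ⟨a, ha⟩
    obtain ⟨k, hk⟩ := D.P.2 ⟨D.ι a, ha⟩
    refine ⟨k, Subtype.ext (D.injective ?_)⟩
    simpa using congrArg Subtype.val hk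
  have := S.3 hp (hS ▸ hle)
  exact ⟨s, hS ▸ this ▸ hx, rfl⟩

/-- Elements with the same automorphism differ by an element of `U`. -/
theorem inv_mul_mem [Finite G] {x y : G} (hx : x ∈ (D.P : Subgroup G)) (hy : y ∈ (D.P : Subgroup G))
    {σ : F ≃+* F} (h1 : Semi x σ) (h2 : Semi y σ) : x⁻¹ * y ∈ D.U := by
  refine D.mem_U_of_linear (mul_mem (inv_mem hx) hy) ?_
  have := h1.inv.mul h2
  rwa [RingEquiv.self_trans_symm] at this

/-- The hypothesis excluding only the case `q = 4` with a field involution. -/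
def Good : Prop :=
  p ≠ 2 ∨ 4 < Fintype.card F ∨ ∀ x ∈ (D.P : Subgroup G), Semi x (RingEquiv.refl F)

/-- A quadratic element of `P` is linear if `p` is odd. -/
theorem linear_of_quad [Finite G] (hp : p ≠ 2) {x : G} (hx : x ∈ (D.P : Subgroup G))
    (hq : ∀ w : Fin 2 → F, x • (x • w - w) = x • w - w) : Semi x (RingEquiv.refl F) := by
  classical
  obtain ⟨σ, hσ⟩ := D.exists_semi hx
  obtain ⟨e, he0, he⟩ : ∃ e : Fin 2 → F, e ≠ 0 ∧ x • e = e := by
    have hP : IsPGroup p (zpowers x) := D.P.2.to_le (zpowers_le.2 hx)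
    have hdvd : p ∣ Nat.card (Fin 2 → F) := by
      obtain ⟨n, -, hn⟩ := FiniteField.card F p
      rw [Nat.card_eq_fintype_card, Fintype.card_fun, Fintype.card_fin, hn, ← pow_mul]
      exact dvd_pow_self p (by simp)
    obtain ⟨e, he, hne⟩ := hP.exists_fixed_point_of_prime_dvd_card_of_fixed_point (Fin 2 → F) hdvd
      (a := 0) (fun g => smul_zero _)
    exact ⟨e, hne.symm, he ⟨x, mem_zpowers x⟩⟩
  have h2 : ∀ c, σ (σ c - c) = σ c - c := by
    intro c
    have h := hq (c • e)
    rw [hσ c, he, ← sub_smul, hσ, he] at h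
    exact smul_left_injective F he0 h
  have : σ = RingEquiv.refl F := by
    refine RingEquiv.ext fun c => ?_
    show σ c = c
    by_contra hne
    set d := σ c - c with hd
    have hd0 : d ≠ 0 := sub_ne_zero.2 hne
    have hc : σ c = c + d := by rw [hd]; ring
    have hdd : σ d = d := h2 c
    have h := h2 (c * c)
    rw [map_sub, map_mul, map_mul, hc, map_add, hc, hdd] at h
    have h' : 2 * (d * d) = 0 := by linear_combination h
    rcases mul_eq_zero.1 h' with h3 | h3
    · exact (Ring.two_ne_zero (by rw [ringChar.eq F p]; exact hp)) h3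
    · exact hd0 (mul_self_eq_zero.1 h3)
  rwa [this] at hσ

/-- The automorphism of an involution of `P` is involutory. -/
theorem semi_invol [Finite G] {x : G} (hx2 : x ^ 2 = 1) {σ : F ≃+* F} (hσ : Semi x σ) (c : F) :
    σ (σ c) = c := by
  have h := hσ.mul hσ
  rw [← sq, hx2] at h
  exact (RingEquiv.congr_fun (Semi.one.unique h) c).symm

/-- `U` is the only elementary abelian subgroup of order `≥ q` of `P` acting quadratically. -/
theorem eq_U [Finite G] (hG : D.Good) {E : Subgroup G} (hE : E ≤ (D.P : Subgroup G))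
    (hexp : ∀ x ∈ E, x ^ p = 1) (hcomm : ∀ x ∈ E, ∀ y ∈ E, Commute x y)
    (hq : ∀ x ∈ E, ∀ w : Fin 2 → F, x • (x • w - w) = x • w - w)
    (hcard : Fintype.card F ≤ Nat.card E) : E = D.U := by
  classical
  refine Subgroup.eq_of_le_of_card_ge ?_ (D.card_U ▸ hcard)
  intro x hx
  refine D.mem_U_of_linear (hE hx) ?_
  by_cases hp : p = 2
  swap
  · exact D.linear_of_quad hp (hE hx) (hq x hx)
  rcases hG with h | h | h
  · exact absurd hp h
  swap
  · exact h x (hE hx)
  obtain ⟨σ, hσ⟩ := D.exists_semi (hE hx)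
  by_contra hnl
  have hσ1 : σ ≠ RingEquiv.refl F := fun e => hnl (e ▸ hσ)
  have hinv : ∀ y ∈ E, ∀ τ : F ≃+* F, Semi y τ → ∀ c, τ (τ c) = c := fun y hy τ hτ =>
    semi_invol (by have := hexp y hy; rwa [hp] at this) hτ
  -- fixed field bound
  have hE0 : Nat.card ↥(E ⊓ D.U) ≤ {c : F | σ c = c}.ncard := by
    obtain ⟨z, hz⟩ : ∃ z, z = x • (![1, 0] : Fin 2 → F) := ⟨_, rfl⟩
    have hz0 : z ≠ 0 := fun h => by
      have h' : (![1, 0] : Fin 2 → F) = 0 := by
        rw [← inv_smul_smul x (![1, 0] : Fin 2 → F), ← hz, h, smul_zero]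
      simpa using congrFun h' 0
    obtain ⟨y, hy⟩ : ∃ y, y = (x • (![0, 1] : Fin 2 → F)) 1 := ⟨_, rfl⟩
    have hrel : ∀ t, D.ι (uElt t) ∈ E → σ t • z = ![t * y, 0] := by
      intro t ht
      have h : x • (D.ι (uElt t) • (![0, 1] : Fin 2 → F)) =
          D.ι (uElt t) • (x • (![0, 1] : Fin 2 → F)) := by
        rw [← mul_smul, ← mul_smul, (hcomm x hx _ ht).eq]
      rw [D.smul_uElt, D.smul_uElt, smul_add] at h
      have h := add_left_cancel h
      have e : (![t * (![0, 1] : Fin 2 → F) 1, 0] : Fin 2 → F) = t • ![1, 0] := by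
        funext i; fin_cases i <;> simp
      rw [e, hσ, ← hz, ← hy] at h
      exact h
    rw [← Nat.card_coe_set_eq]
    by_cases hall : ∀ g ∈ E ⊓ D.U, g = 1
    · have : E ⊓ D.U = ⊥ := (Subgroup.eq_bot_iff_forall _).2 hall
      rw [this, Subgroup.card_bot]
      exact Nat.one_le_iff_ne_zero.2 (Nat.card_ne_zero.2 ⟨⟨⟨0, map_zero σ⟩⟩, inferInstance⟩)
    simp only [not_forall] at hall
    obtain ⟨g, hg, hg1⟩ := hall
    obtain ⟨s, rfl⟩ := D.mem_U.1 hg.2
    have hs0 : s ≠ 0 := fun h => hg1 (by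
      rw [h, show (uElt (0 : F)) = 1 from Matrix.SpecialLinearGroup.transvection_coeff_zero _, map_one])
    have hmem : ∀ g : ↥(E ⊓ D.U), ∃ c : {c : F | σ c = c}, D.ι (uElt ((c : F) * s)) = g := by
      rintro ⟨g, hgE, hgU⟩
      obtain ⟨t, rfl⟩ := D.mem_U.1 hgU
      refine ⟨⟨t / s, ?_⟩, by simp [hs0]⟩
      have h1 := congrArg (fun v => σ s • v) (hrel t hgE)
      have h2 := congrArg (fun v => σ t • v) (hrel s hg.1)
      have h3 : σ s • (![t * y, 0] : Fin 2 → F) = σ t • ![s * y, 0] := by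
        rw [← h1, ← h2]; exact smul_comm _ _ _
      have h4 : σ s * (t * y) = σ t * (s * y) := by simpa using congrFun h3 0
      have hy0 : y ≠ 0 := by
        intro hy0
        have h5 := hrel s hg.1
        rw [hy0, mul_zero] at h5
        have h6 : σ s • z = 0 := by rw [h5]; funext i; fin_cases i <;> rfl
        exact hz0 ((smul_eq_zero.1 h6).resolve_left (by simpa using hs0))
      show σ (t / s) = t / s
      rw [map_div₀, div_eq_div_iff (by simpa using hs0) hs0]
      exact (mul_right_cancel₀ hy0 (by linear_combination h4)).symm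
    choose c hc using hmem
    exact Nat.card_le_card_of_injective c fun a b hab =>
      Subtype.ext (by rw [← hc a, ← hc b, hab])
  -- index at most two
  have hdiff : ∀ y : ↥E, (y : G) ∉ D.U → x⁻¹ * y ∈ E ⊓ D.U := by
    intro y hy
    obtain ⟨τ, hτ⟩ := D.exists_semi (hE y.2)
    have hτ1 : τ ≠ RingEquiv.refl F := fun e => hy (D.mem_U_of_linear (hE y.2) (e ▸ hτ))
    have he : σ = τ := invol_unique (hinv x hx σ hσ) (hinv y y.2 τ hτ) hσ1 hτ1
    exact ⟨E.mul_mem (E.inv_mem hx) y.2, D.inv_mul_mem (hE hx) (hE y.2) hσ (he ▸ hτ)⟩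
  have h2 : Nat.card E ≤ 2 * Nat.card ↥(E ⊓ D.U) := by
    rw [show 2 = Nat.card Bool by simp, ← Nat.card_prod]
    refine Nat.card_le_card_of_injective
      (fun y : ↥E => if hy : (y : G) ∈ D.U then (true, (⟨y, y.2, hy⟩ : ↥(E ⊓ D.U)))
        else (false, ⟨x⁻¹ * y, hdiff y hy⟩)) ?_
    intro a b hab
    dsimp only at hab
    split_ifs at hab
    · exact Subtype.ext (congrArg Subtype.val (congrArg Prod.snd hab) :)
    · exact absurd (congrArg Prod.fst hab) (by simp)
    · exact absurd (congrArg Prod.fst hab) (by simp)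
    · exact Subtype.ext (mul_left_cancel (congrArg Subtype.val (congrArg Prod.snd hab)))
  have h3 := fix_sq_le hσ1
  rw [Nat.card_eq_fintype_card] at h3
  set q := Fintype.card F
  nlinarith

end Emb

end CfsgLib.SLTwoEmb
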