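import Cfsg.Agent.Lib.Local.SLTwoEmb.Axis
import Cfsg.Agent.Lib.ClassK.SmallSimple
import Cfsg.Agent.Lib.Classical.ExcIsoPerm

/-!
# The exceptional case: four elements and a field involution
-/

set_option autoImplicit false

namespace CfsgLib.SLTwoEmb

open Matrix Subgroup CfsgLib.Classical
open scoped MatrixGroups

theorem zmod_two_pow_four : ∀ r : ZMod 2, r ^ 4 = 1 → r = 1 := by decide

theorem zmod_two_ne_zero : ∀ r : ZMod 2, r ≠ 0 → r = 1 := by decide

theorem toGL_four_bijective :
    Function.Bijective (Matrix.SpecialLinearGroup.toGL (n := Fin 4) (R := ZMod 2)) := by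
  refine ⟨Matrix.SpecialLinearGroup.toGL_injective, fun M => ?_⟩
  have hd : Matrix.det (M : Matrix (Fin 4) (Fin 4) (ZMod 2)) = 1 := by
    refine zmod_two_ne_zero _ ?_
    rw [← Matrix.GeneralLinearGroup.val_det_apply]
    intro h
    have h1 : (Matrix.GeneralLinearGroup.det M).val * (Matrix.GeneralLinearGroup.det M)⁻¹.val = 1 :=
      Units.mul_inv _
    rw [h, zero_mul] at h1
    exact absurd h1 (by decide)
  refine ⟨⟨(M : Matrix (Fin 4) (Fin 4) (ZMod 2)), hd⟩, ?_⟩
  ext i j
  rfl

theorem slFour_center : Subgroup.center (Matrix.SpecialLinearGroup (Fin 4) (ZMod 2)) = ⊥ := by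
  refine (Subgroup.eq_bot_iff_forall _).2 fun A hA => ?_
  obtain ⟨r, hr, hA'⟩ := Matrix.SpecialLinearGroup.mem_center_iff.1 hA
  rw [Fintype.card_fin] at hr
  rw [zmod_two_pow_four r hr, map_one] at hA'
  exact Subtype.ext hA'.symm

/-- `GL₄(2) ≅ A₈`. -/
theorem gl_four_two_equiv : Nonempty (GL (Fin 4) (ZMod 2) ≃* alternatingGroup (Fin 8)) := by
  haveI : Fact (Nat.Prime 2) := ⟨Nat.prime_two⟩
  obtain ⟨e⟩ := CfsgLib.Classical.pOmega_plus_six (F := ZMod 2)
  obtain ⟨f⟩ := CfsgLib.Classical.pOmega_plus_six_two_equiv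
  have h1 : Function.Bijective (QuotientGroup.mk' (Subgroup.center (Matrix.SpecialLinearGroup (Fin 4) (ZMod 2)))) :=
    ⟨(MonoidHom.ker_eq_bot_iff _).1 (by rw [QuotientGroup.ker_mk', slFour_center]), QuotientGroup.mk'_surjective _⟩
  exact ⟨(((MulEquiv.ofBijective _ toGL_four_bijective).symm.trans (MulEquiv.ofBijective _ h1)).trans
    e.symm).trans f⟩

theorem card_le_factorial_index {H : Type*} [Group H] [Finite H] [IsSimpleGroup H]
    (J : Subgroup H) (hJ : J ≠ ⊤) :
    Function.Injective (MulAction.toPermHom H (H ⧸ J)) ∧ Nat.card H ≤ J.index.factorial := by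
  have hi : Function.Injective (MulAction.toPermHom H (H ⧸ J)) := by
    rw [← MonoidHom.ker_eq_bot_iff, ← Subgroup.normalCore_eq_ker]
    rcases (J.normalCore_normal).eq_bot_or_eq_top with h | h
    · exact h
    · exact absurd (top_le_iff.1 (h ▸ J.normalCore_le)) hJ
  refine ⟨hi, ?_⟩
  rw [Subgroup.index, ← Nat.card_perm]
  exact Nat.card_le_card_of_injective _ hi

/-- A subgroup of order `2520` of `A₈` is `A₇`. -/
theorem nonempty_alt_seven {G : Type*} [Group G] [Finite G] (hG : Nat.card G = 2520)
    (f : G →* alternatingGroup (Fin 8)) (hf : Function.Injective f) :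
    Nonempty (G ≃* alternatingGroup (Fin 7)) := by
  classical
  set J := f.range with hJ
  haveI : IsSimpleGroup (alternatingGroup (Fin 8)) := alternatingGroup.isSimpleGroup (by simp)
  have hcJ : Nat.card J = 2520 := by rw [← hG]; exact (Nat.card_congr (Equiv.ofInjective f hf)).symm
  have hc8 : Nat.card (alternatingGroup (Fin 8)) = 20160 := by
    rw [nat_card_alternatingGroup]; simp [Nat.factorial]
  have hidx : J.index = 8 := by
    have := J.card_mul_index
    rw [hcJ, hc8] at this
    omega
  have hne : J ≠ ⊤ := fun h => by rw [h, Subgroup.index_top] at hidx; omega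
  obtain ⟨hinj, -⟩ := card_le_factorial_index J hne
  let Ω := {x : alternatingGroup (Fin 8) ⧸ J // x ≠ ((1 : alternatingGroup (Fin 8)) : alternatingGroup (Fin 8) ⧸ J)}
  have hfix : ∀ (g : G) (x : alternatingGroup (Fin 8) ⧸ J),
      x ≠ ((1 : alternatingGroup (Fin 8)) : alternatingGroup (Fin 8) ⧸ J) ↔
      f g • x ≠ ((1 : alternatingGroup (Fin 8)) : alternatingGroup (Fin 8) ⧸ J) := by
    intro g x
    have h1 : f g • ((1 : alternatingGroup (Fin 8)) : alternatingGroup (Fin 8) ⧸ J) =
        ((1 : alternatingGroup (Fin 8)) : alternatingGroup (Fin 8) ⧸ J) := by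
      rw [MulAction.Quotient.smul_coe, smul_eq_mul, mul_one]
      exact QuotientGroup.eq.2 (by simpa using J.inv_mem (⟨g, rfl⟩ : f g ∈ f.range))
    conv_rhs => rw [← h1]
    exact (smul_left_cancel_iff (f g)).symm.not
  let ψ : G →* Equiv.Perm Ω := MonoidHom.mk'
    (fun g => (MulAction.toPerm (f g)).subtypePerm fun x => (hfix g x).symm)
    (fun a b => Equiv.ext fun x => Subtype.ext (by
      show f (a * b) • (x : alternatingGroup (Fin 8) ⧸ J) = f a • f b • (x : alternatingGroup (Fin 8) ⧸ J)
      rw [map_mul, mul_smul]))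
  have hψ : Function.Injective ψ := by
    intro a b h
    refine hf (hinj (Equiv.ext fun x => ?_))
    show f a • x = f b • x
    by_cases hx : x = ((1 : alternatingGroup (Fin 8)) : alternatingGroup (Fin 8) ⧸ J)
    · subst hx
      rw [MulAction.Quotient.smul_coe, MulAction.Quotient.smul_coe, smul_eq_mul, smul_eq_mul,
        mul_one, mul_one]
      exact QuotientGroup.eq.2 (J.mul_mem (J.inv_mem ⟨a, rfl⟩) ⟨b, rfl⟩)
    · exact congrArg Subtype.val (Equiv.congr_fun h ⟨x, hx⟩)
  have hΩ : Nat.card Ω = 7 := by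
    haveI : Fintype (alternatingGroup (Fin 8) ⧸ J) := Fintype.ofFinite _
    rw [Nat.card_eq_fintype_card, Fintype.card_subtype_compl, Fintype.card_subtype_eq,
      ← Nat.card_eq_fintype_card, ← Subgroup.index, hidx]
  let e : Ω ≃ Fin 7 := Finite.equivFinOfCardEq hΩ
  let χ : G →* Equiv.Perm (Fin 7) := e.permCongrHom.toMonoidHom.comp ψ
  have hχ : Function.Injective χ := e.permCongrHom.injective.comp hψ
  have hr : χ.range.index = 2 := by
    have h1 : Nat.card χ.range = 2520 := by
      rw [← hG]; exact (Nat.card_congr (Equiv.ofInjective χ hχ)).symm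
    have h2 := χ.range.card_mul_index
    rw [h1, Nat.card_perm, Nat.card_fin] at h2
    simp [Nat.factorial] at h2
    omega
  have heq := Equiv.Perm.eq_alternatingGroup_of_index_eq_two hr
  exact ⟨(MonoidHom.ofInjective hχ).trans (MulEquiv.subgroupCongr heq)⟩

variable {F : Type*} [Field F] [Fintype F] {G : Type*} [Group G] [Finite G]
  [DistribMulAction G (Fin 2 → F)] [FaithfulSMul G (Fin 2 → F)]

/-- The embedding of `G` into `GL₄(2)`. -/
theorem exists_hom_gl [CharP F 2] (hq : Fintype.card F = 4) :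
    ∃ f : G →* GL (Fin 4) (ZMod 2), Function.Injective f := by
  classical
  letI : Algebra (ZMod 2) F := ZMod.algebra F 2
  have hr : Module.finrank (ZMod 2) (Fin 2 → F) = 4 := by
    have h := Module.card_eq_pow_finrank (K := ZMod 2) (V := Fin 2 → F)
    rw [Fintype.card_fun, hq, Fintype.card_fin, ZMod.card] at h
    exact (Nat.pow_right_injective le_rfl (h.symm.trans (by norm_num : (4 : ℕ) ^ 2 = 2 ^ 4)))
  let b : Module.Basis (Fin 4) (ZMod 2) (Fin 2 → F) := Module.finBasisOfFinrankEq _ _ hr
  let θ : G →* Module.End (ZMod 2) (Fin 2 → F) :=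
    { toFun := fun g => (DistribMulAction.toAddMonoidHom (Fin 2 → F) g).toZModLinearMap 2
      map_one' := LinearMap.ext fun w => one_smul G w
      map_mul' := fun g h => LinearMap.ext fun w => mul_smul g h w }
  have hθ : Function.Injective θ := fun g h e =>
    eq_of_smul_eq_smul (α := Fin 2 → F) fun w => LinearMap.congr_fun e w
  let ψ : G →* (Module.End (ZMod 2) (Fin 2 → F))ˣ := θ.toHomUnits
  have hψ : Function.Injective ψ := fun g h e => hθ (congrArg Units.val e :)
  refine ⟨(Units.mapEquiv (LinearMap.toMatrixAlgEquiv b).toMulEquiv).toMonoidHom.comp ψ, ?_⟩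
  exact (Units.mapEquiv (LinearMap.toMatrixAlgEquiv b).toMulEquiv).injective.comp hψ

omit [Fintype F] in
/-- Automorphisms of the field with four elements are involutory. -/
theorem inv_of_four [Fintype F] (hq : Fintype.card F = 4) (τ : F ≃+* F) (c : F) : τ (τ c) = c := by
  classical
  by_contra hne
  have hc0 : c ≠ 0 := fun h => hne (by simp [h])
  have hc1 : c ≠ 1 := fun h => hne (by simp [h])
  have h1 : τ c ≠ c := fun h => hne (by rw [h, h])
  have hs : ({0, 1, c, τ c, τ (τ c)} : Finset F).card ≤ 4 := hq ▸ Finset.card_le_univ _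
  have e0 : τ c ≠ 0 := by simpa using hc0
  have e1 : τ c ≠ 1 := by simpa using hc1
  have f0 : τ (τ c) ≠ 0 := by simpa using hc0
  have f1 : τ (τ c) ≠ 1 := by simpa using hc1
  have f2 : τ (τ c) ≠ τ c := fun h => h1 (τ.injective h)
  simp [Finset.card_insert_of_notMem, hc0.symm, hc1.symm, h1.symm, e0.symm, e1.symm, f0.symm,
    f1.symm, f2.symm, Ne.symm hne] at hs

namespace Emb

variable [CharP F 2] (D : Emb 2 F G)

omit [Finite G] [DistribMulAction G (Fin 2 → F)] [FaithfulSMul G (Fin 2 → F)] in
theorem isSimpleGroup_sl (hq : Fintype.card F = 4) : IsSimpleGroup SL(2, F) := by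
  haveI := CfsgLib.ClassK.isSimpleGroup_psl_two (F := F) hq.ge
  have hc : Subgroup.center SL(2, F) = ⊥ := by
    refine (Subgroup.eq_bot_iff_forall _).2 fun A hA => ?_
    obtain ⟨r, hr, hA'⟩ := Matrix.SpecialLinearGroup.mem_center_iff.1 hA
    have hr1 : r = 1 := by
      rw [Fintype.card_fin] at hr
      have : (r - 1) * (r - 1) = 0 := by
        have h2 : (2 : F) = 0 := by simpa using CharP.cast_eq_zero F 2
        linear_combination hr + (1 - r) * h2
      exact sub_eq_zero.1 (mul_self_eq_zero.1 this)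
    refine Subtype.ext ?_
    rw [← hA', hr1]; simp
  have h1 : Function.Bijective (QuotientGroup.mk' (Subgroup.center SL(2, F))) :=
    ⟨(MonoidHom.ker_eq_bot_iff _).1 (by rw [QuotientGroup.ker_mk', hc]), QuotientGroup.mk'_surjective _⟩
  exact (MulEquiv.ofBijective _ h1).isSimpleGroup_congr.2 inferInstance

/-- The exceptional case. -/
theorem normal_or_alt_seven (hq : Fintype.card F = 4)
    (hx : ∃ x ∈ (D.P : Subgroup G), ¬ Semi x (RingEquiv.refl F)) :
    D.ι.range.Normal ∨ Nonempty (G ≃* alternatingGroup (Fin 7)) := by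
  classical
  haveI : Fact (Nat.Prime 2) := ⟨Nat.prime_two⟩
  haveI := isSimpleGroup_sl (F := F) hq
  have hdich : ∀ (H : Type _) [Group H] (θ : SL(2, F) →* H),
      (∀ s, θ s = 1) ∨ Function.Injective θ := fun H _ θ => by
    rcases (MonoidHom.normal_ker θ).eq_bot_or_eq_top with h | h
    · exact Or.inr ((MonoidHom.ker_eq_bot_iff θ).1 h)
    · exact Or.inl fun s => MonoidHom.mem_ker.1 (by rw [h]; exact mem_top s)
  have h60 : Nat.card SL(2, F) = 60 := by rw [card_sl_two_eq (F := F), hq]; norm_num
  have hcL : Nat.card D.ι.range = 60 := by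
    rw [← h60]; exact (Nat.card_congr (Equiv.ofInjective D.ι D.injective)).symm
  -- the Sylow subgroup has order eight
  have hcU : Nat.card D.U = 4 := D.card_U.trans hq
  obtain ⟨x, hxP, hxl⟩ := hx
  obtain ⟨σ, hσ⟩ := D.exists_semi hxP
  have hσ1 : σ ≠ RingEquiv.refl F := fun e => hxl (e ▸ hσ)
  have hxU : x ∉ D.U := fun h => hxl (D.semi_range (D.U_le_range h))
  obtain ⟨f₀, hf₀⟩ := exists_hom_gl (G := G) hq
  obtain ⟨e⟩ := gl_four_two_equiv
  obtain ⟨f, hf⟩ : ∃ f : G →* alternatingGroup (Fin 8), Function.Injective f :=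
    ⟨e.toMonoidHom.comp f₀, e.injective.comp hf₀⟩
  have hPpow : ∃ n, Nat.card D.P = 2 ^ n := IsPGroup.iff_card.1 D.P.2
  have hP8 : Nat.card D.P = 8 := by
    have hlt : 4 < Nat.card D.P := by
      rw [← hcU]
      by_contra hle
      apply hxU
      rw [Emb.U, Subgroup.eq_of_le_of_card_ge D.le (not_lt.1 hle)]
      exact hxP
    have hinvσ : ∀ τ : F ≃+* F, τ ≠ RingEquiv.refl F → τ = σ := by
      intro τ hτ
      refine invol_unique ?_ ?_ hτ hσ1
      · exact inv_of_four hq τ
      · exact inv_of_four hq σ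
    have hdiff : ∀ y : ↥D.P, (y : G) ∉ D.U → x⁻¹ * y ∈ D.U := by
      intro y hy
      obtain ⟨τ, hτ⟩ := D.exists_semi y.2
      have hτ1 : τ ≠ RingEquiv.refl F := fun e => hy (D.mem_U_of_linear y.2 (e ▸ hτ))
      exact D.inv_mul_mem hxP y.2 hσ (hinvσ τ hτ1 ▸ hτ)
    have hle : Nat.card D.P ≤ 2 * Nat.card D.U := by
      refine le_trans ?_ (le_of_eq (show Nat.card (Bool × ↥D.U) = 2 * Nat.card D.U by
        rw [Nat.card_prod]; simp))
      refine Nat.card_le_card_of_injective
        (fun y : ↥D.P => if hy : (y : G) ∈ D.U then (true, (⟨y, hy⟩ : ↥D.U))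
          else (false, ⟨x⁻¹ * y, hdiff y hy⟩)) ?_
      intro a b hab
      dsimp only at hab
      split_ifs at hab
      · exact Subtype.ext (congrArg Subtype.val (congrArg Prod.snd hab) :)
      · exact absurd (congrArg Prod.fst hab) (by simp)
      · exact absurd (congrArg Prod.fst hab) (by simp)
      · exact Subtype.ext (mul_left_cancel (congrArg Subtype.val (congrArg Prod.snd hab)))
    rw [hcU] at hle
    obtain ⟨n, hn⟩ := hPpow
    rw [hn] at hlt hle ⊢
    have h1 : n < 4 := (Nat.pow_lt_pow_iff_right (by norm_num)).1 (by omega : 2 ^ n < 2 ^ 4)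
    interval_cases n <;> simp_all
  have hG2520 : Nat.card G ∣ 2520 := by
    have h1 := (D.P : Subgroup G).card_mul_index
    rw [hP8] at h1
    have h2 : Nat.card G ∣ 20160 := by
      have h := Subgroup.card_dvd_of_injective f hf
      rwa [show Nat.card (alternatingGroup (Fin 8)) = 20160 by
        rw [nat_card_alternatingGroup]; simp [Nat.factorial]] at h
    have hco : Nat.Coprime (D.P : Subgroup G).index 64 :=
      Nat.Coprime.pow_right 6 ((Nat.coprime_comm.1 ((Nat.prime_two.coprime_iff_not_dvd).2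
        D.P.not_dvd_index)))
    rw [← h1] at h2 ⊢
    have h3 : (D.P : Subgroup G).index ∣ 315 := by
      have h4 : (D.P : Subgroup G).index ∣ 64 * 315 := (dvd_mul_left _ 8).trans h2
      exact hco.dvd_of_dvd_mul_left h4
    exact mul_dvd_mul_left 8 h3
  -- the normalizer
  set N := normalizer (D.ι.range : Set G) with hN
  have hLN : D.ι.range ≤ N := le_normalizer
  have hN120 : 120 ∣ Nat.card N := by
    have h1 := Subgroup.card_dvd_of_le hLN
    have h2 := Subgroup.card_dvd_of_le D.nrm
    rw [hcL] at h1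
    rw [hP8, ← hN] at h2
    omega
  obtain ⟨k, hk⟩ := hN120
  have hr := N.card_mul_index
  rw [hk] at hr
  have h21 : k * N.index ∣ 21 := by
    rw [← hr, mul_assoc] at hG2520
    exact Nat.dvd_of_mul_dvd_mul_left (by norm_num) (show 120 * (k * N.index) ∣ 120 * 21 from hG2520)
  have hk21 : k ≤ 21 := Nat.le_of_dvd (by norm_num) ((dvd_mul_right _ _).trans h21)
  have hi21 : N.index ∣ 21 := (dvd_mul_left _ _).trans h21
  haveI : (D.ι.range.subgroupOf N).Normal := Subgroup.normal_in_normalizer
  have hquot : Nat.card (↥N ⧸ D.ι.range.subgroupOf N) = 2 * k := by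
    have h := (D.ι.range.subgroupOf N).card_mul_index
    rw [Nat.card_congr (subgroupOfEquivOfLe hLN).toEquiv, hcL, hk, Subgroup.index] at h
    omega
  by_cases hcore : D.ι.range ≤ N.normalCore
  · refine Or.inl ⟨fun y hy g => ?_⟩
    obtain ⟨a, rfl⟩ := hy
    have hm : ∀ s, g * D.ι s * g⁻¹ ∈ N := fun s =>
      N.normalCore_le ((N.normalCore_normal).conj_mem _ (hcore ⟨s, rfl⟩) g)
    let θ : SL(2, F) →* ↥N ⧸ D.ι.range.subgroupOf N :=
      (QuotientGroup.mk' _).comp ((((MulAut.conj g).toMonoidHom.comp D.ι)).codRestrict N hm)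
    rcases hdich _ θ with h | h
    · have h1 := h a
      rw [MonoidHom.comp_apply, QuotientGroup.mk'_apply, QuotientGroup.eq_one_iff] at h1
      exact h1
    · exfalso
      have h1 := Nat.card_le_card_of_injective θ h
      rw [h60, hquot] at h1
      omega
  refine Or.inr (nonempty_alt_seven ?_ f hf)
  let π := MulAction.toPermHom G (G ⧸ N)
  have hπ : Function.Injective (π.comp D.ι) := by
    refine (hdich _ (π.comp D.ι)).resolve_left fun h => hcore ?_
    rintro _ ⟨s, rfl⟩
    rw [Subgroup.normalCore_eq_ker]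
    exact h s
  have hfact : 60 ≤ N.index.factorial := by
    rw [← h60, Subgroup.index, ← Nat.card_perm]
    exact Nat.card_le_card_of_injective _ hπ
  obtain ⟨r, hrdef⟩ : ∃ r, N.index = r := ⟨_, rfl⟩
  rw [hrdef] at hr hi21 h21 hfact
  have hrcases : r = 7 ∨ r = 21 := by
    have := Nat.le_of_dvd (by norm_num) hi21
    interval_cases r <;> first | omega | simp [Nat.factorial] at hfact | norm_num at hi21
  have hkcases : Nat.card G = 2520 ∨ (r = 7 ∧ k = 1) := by
    rcases hrcases with rfl | rfl
    · have h3 : k ∣ 3 := Nat.dvd_of_mul_dvd_mul_right (by norm_num : 0 < 7) h21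
      rcases (Nat.dvd_prime Nat.prime_three).1 h3 with rfl | rfl
      · exact Or.inr ⟨rfl, rfl⟩
      · exact Or.inl (by omega)
    · have h3 : k ∣ 1 := Nat.dvd_of_mul_dvd_mul_right (by norm_num : 0 < 21) (by simpa using h21)
      rw [Nat.dvd_one.1 h3] at hr
      exact Or.inl (by omega)
  refine hkcases.resolve_right fun ⟨hr7, hk1⟩ => ?_
  subst hr7 hk1
  have hc840 : Nat.card G = 840 := by omega
  -- the kernel is trivial
  have hK : ∀ z ∈ N.normalCore, z = 1 := by
    haveI := N.normalCore_normal
    have hbot : ∀ s, D.ι s ∈ N.normalCore → s = 1 := by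
      intro s hs
      rw [Subgroup.normalCore_eq_ker] at hs
      exact hπ (by rw [map_one]; exact hs)
    let θ : ↥N.normalCore →* ↥N ⧸ D.ι.range.subgroupOf N :=
      (QuotientGroup.mk' _).comp (Subgroup.inclusion N.normalCore_le)
    have hθ : Function.Injective θ := by
      rw [injective_iff_map_eq_one]
      rintro ⟨y, hy⟩ h
      rw [MonoidHom.comp_apply, QuotientGroup.mk'_apply, QuotientGroup.eq_one_iff] at h
      obtain ⟨s, hs⟩ := (h : y ∈ D.ι.range)
      refine Subtype.ext ?_
      subst hs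
      show D.ι s = 1
      rw [hbot s hy, map_one]
    have hle : Nat.card N.normalCore ≤ 2 := by
      have := Nat.card_le_card_of_injective θ hθ
      rw [hquot] at this; omega
    intro z hz
    have hall : ∀ g, g * z * g⁻¹ = z := by
      intro g
      by_contra hne
      have hz1 : z ≠ 1 := fun h => hne (by rw [h]; group)
      have hgm : g * z * g⁻¹ ∈ N.normalCore := this.conj_mem _ hz g
      have hg1 : g * z * g⁻¹ ≠ 1 := fun h => hz1 (conj_eq_one_iff.1 h)
      have h3 : 3 ≤ Nat.card N.normalCore := by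
        rw [show 3 = Nat.card (Fin 3) by simp]
        refine Nat.card_le_card_of_injective
          ![(1 : ↥N.normalCore), ⟨z, hz⟩, ⟨g * z * g⁻¹, hgm⟩] fun i j h => ?_
        have h' := congrArg Subtype.val h
        fin_cases i <;> fin_cases j <;> first
          | rfl
          | (exact absurd h' hz1) | (exact absurd h' (Ne.symm hz1))
          | (exact absurd h' hg1) | (exact absurd h' (Ne.symm hg1))
          | (exact absurd h' hne) | (exact absurd h' (Ne.symm hne))
      omega
    obtain ⟨c, hc⟩ := exists_scalar (DistribMulAction.toAddMonoidHom (Fin 2 → F) z) fun s w => by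
      show z • ((s : Matrix (Fin 2) (Fin 2) F) *ᵥ w) = (s : Matrix (Fin 2) (Fin 2) F) *ᵥ (z • w)
      rw [← D.act, ← D.act, ← mul_smul, ← mul_smul]
      congr 1
      have := hall (D.ι s)
      rw [mul_inv_eq_iff_eq_mul] at this
      exact this.symm
    have hc' : ∀ w : Fin 2 → F, z • w = c • w := hc
    have hz2 : z ^ 2 = 1 := by
      have hpos : 0 < Nat.card N.normalCore := Nat.card_pos
      have h := _root_.orderOf_le_card (x := (⟨z, hz⟩ : ↥N.normalCore))
      rw [Subgroup.orderOf_mk] at h
      have h0 : 0 < orderOf z := (isOfFinOrder_of_finite z).orderOf_pos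
      rcases (show orderOf z = 1 ∨ orderOf z = 2 by omega) with h1 | h1
      · rw [orderOf_eq_one_iff.1 h1, one_pow]
      · rw [← h1]; exact pow_orderOf_eq_one z
    have hc1 : c = 1 := by
      have h := congrArg (fun y => y • (![1, 0] : Fin 2 → F)) hz2
      simp only [sq, mul_smul, one_smul, hc'] at h
      have h' : c * c = 1 := by simpa using congrFun h 0
      have : (c - 1) * (c - 1) = 0 := by
        have h2 : (2 : F) = 0 := by simpa using CharP.cast_eq_zero F 2
        linear_combination h' + (1 - c) * h2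
      exact sub_eq_zero.1 (mul_self_eq_zero.1 this)
    exact eq_of_smul_eq_smul (α := Fin 2 → F) fun w => by rw [hc', hc1, one_smul, one_smul]
  have hπi : Function.Injective π := by
    rw [← MonoidHom.ker_eq_bot_iff, ← Subgroup.normalCore_eq_ker]
    exact (Subgroup.eq_bot_iff_forall _).2 hK
  have h7 : Nat.card (G ⧸ N) = 7 := hrdef
  let χ : G →* Equiv.Perm (Fin 7) := (Finite.equivFinOfCardEq h7).permCongrHom.toMonoidHom.comp π
  have hχ : Function.Injective χ := (Finite.equivFinOfCardEq h7).permCongrHom.injective.comp hπi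
  have hH : Nat.card χ.range = 840 := by
    rw [← hc840]; exact (Nat.card_congr (Equiv.ofInjective χ hχ)).symm
  set J := χ.range.subgroupOf (alternatingGroup (Fin 7)) with hJ
  have h7c : Nat.card (alternatingGroup (Fin 7)) = 2520 := by
    rw [nat_card_alternatingGroup]; simp [Nat.factorial]
  have hA2 : (alternatingGroup (Fin 7)).index = 2 := alternatingGroup.index_eq_two
  have hJidx : J.index ≤ 6 := by
    have h1 : χ.range.index = 6 := by
      have h := χ.range.card_mul_index
      rw [hH, Nat.card_perm, Nat.card_fin] at h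
      simp [Nat.factorial] at h
      omega
    show χ.range.relIndex (alternatingGroup (Fin 7)) ≤ 6
    rw [← h1]
    exact (Subgroup.relIndex_le_of_le_right le_top (by rw [Subgroup.relIndex_top_right]; omega)).trans_eq (Subgroup.relIndex_top_right _)
  have hJne : J ≠ ⊤ := by
    intro h
    rw [hJ, subgroupOf_eq_top] at h
    have := Subgroup.card_le_of_le h
    omega
  haveI : IsSimpleGroup (alternatingGroup (Fin 7)) := alternatingGroup.isSimpleGroup (by simp)
  have h := ((card_le_factorial_index J hJne).2).trans (Nat.factorial_le hJidx)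
  rw [h7c] at h
  simp [Nat.factorial] at h

end Emb

end CfsgLib.SLTwoEmb
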