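import Cfsg.Agent.Lib.Local.SLTwoEmb.Four
import Cfsg.Prelude.Def_LocalEven

/-!
# A natural `SL₂(F)` normalized by a Sylow subgroup is normal, or we have `A₇`
-/

set_option autoImplicit false

namespace CfsgLib.SLTwoEmb

open Matrix Subgroup CfsgLib.Classical
open scoped MatrixGroups

/-- **The normal-or-`A₇` alternative.** -/
theorem normal_or_alt {F : Type*} [Field F] [Fintype F] {G : Type*} [Group G] [Finite G]
    [DistribMulAction G (Fin 2 → F)] [FaithfulSMul G (Fin 2 → F)] {p : ℕ} [Fact p.Prime] [CharP F p]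
    (D : Emb p F G) :
    D.ι.range.Normal ∨ (Fintype.card F = 4 ∧ Nonempty (G ≃* alternatingGroup (Fin 7))) := by
  by_cases hG : D.Good
  · exact Or.inl (D.range_normal hG)
  simp only [Emb.Good, not_or, not_not, not_lt, not_forall] at hG
  obtain ⟨rfl, hle, x, hx, hxl⟩ := hG
  have hq : Fintype.card F = 4 := by
    obtain ⟨n, hn2, hn⟩ := FiniteField.card F 2
    rw [hn] at hle ⊢
    rcases Nat.lt_or_ge (n : ℕ) 2 with h | h
    · exfalso
      have hn1 : (n : ℕ) = 1 := by have := n.pos; omega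
      rw [hn1, pow_one] at hn
      apply hxl
      obtain ⟨σ, hσ⟩ := D.exists_semi hx
      have : σ = RingEquiv.refl F := by
        refine RingEquiv.ext fun c => ?_
        show σ c = c
        classical
        have hc : c = 0 ∨ c = 1 := by
          by_contra hne
          simp only [not_or] at hne
          have : ({0, 1, c} : Finset F).card ≤ 2 := hn ▸ Finset.card_le_univ _
          simp [Finset.card_insert_of_notMem, Ne.symm hne.1, Ne.symm hne.2] at this
        rcases hc with rfl | rfl <;> simp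
      rwa [this] at hσ
    · have : (n : ℕ) = 2 := by
        by_contra hne
        have := Nat.pow_le_pow_right (show 1 ≤ 2 by norm_num) (show 3 ≤ (n : ℕ) by omega)
        omega
      rw [this]; rfl
  exact (D.normal_or_alt_seven hq ⟨x, hx, hxl⟩).imp_right fun h => ⟨hq, h⟩

/-- The theorem for subgroups of an ambient group. -/
theorem main {X : Type*} [Group X] [Finite X] {p : ℕ} [Fact p.Prime] {F : Type*} [Field F]
    [Fintype F] [CharP F p] (V G L : Subgroup X) (hGV : G ≤ normalizer (V : Set X))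
    (hfaith : G ⊓ centralizer (V : Set X) = ⊥) (hLG : L ≤ G)
    (hnat : Cfsg.IsNaturalSL2Module F V L)
    (hSyl : ∀ S : Sylow p ↥(G ⊓ normalizer (L : Set X)), ∀ P : Sylow p ↥G,
      Nat.card S = Nat.card P) :
    (L.subgroupOf G).Normal ∨
      (Fintype.card F = 4 ∧ Nonempty (↥G ≃* ↥(alternatingGroup (Fin 7)))) := by
  classical
  obtain ⟨-, ρ, ψ, hρs, hρk, hact⟩ := hnat
  have hmem : ∀ (g : ↥G) (v : ↥V), (g : X) * v * (g : X)⁻¹ ∈ V := fun g v =>
    (mem_normalizer_iff.1 (hGV g.2) v).1 v.2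
  let act : ↥G → (Fin 2 → F) → (Fin 2 → F) := fun g w =>
    ψ (Additive.ofMul ⟨_, hmem g (Additive.toMul (ψ.symm w))⟩)
  letI inst : DistribMulAction ↥G (Fin 2 → F) :=
    { smul := act
      one_smul := fun w => by
        show ψ (Additive.ofMul _) = w
        conv_rhs => rw [← ψ.apply_symm_apply w]
        exact congrArg ψ (congrArg Additive.ofMul (Subtype.ext (by simp; rfl)))
      mul_smul := fun g h w => by
        show ψ (Additive.ofMul _) = act g (act h w)
        refine congrArg ψ (congrArg Additive.ofMul (Subtype.ext ?_))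
        simp [act, mul_assoc]
      smul_zero := fun g => by
        show ψ (Additive.ofMul _) = 0
        rw [← map_zero ψ]
        exact congrArg ψ (congrArg Additive.ofMul (Subtype.ext (by simp)))
      smul_add := fun g v w => by
        show ψ (Additive.ofMul _) = act g v + act g w
        simp only [act, ← map_add, ← ofMul_mul]
        refine congrArg ψ (congrArg Additive.ofMul (Subtype.ext ?_))
        simp [mul_assoc] }
  have hsmul : ∀ (g : ↥G) (v : ↥V), g • ψ (Additive.ofMul v) = ψ (Additive.ofMul ⟨_, hmem g v⟩) := by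
    intro g v
    show ψ (Additive.ofMul _) = _
    refine congrArg ψ (congrArg Additive.ofMul (Subtype.ext ?_))
    simp
  haveI : FaithfulSMul ↥G (Fin 2 → F) := ⟨fun {g h} hgh => by
    have hc : (g : X)⁻¹ * h ∈ G ⊓ centralizer (V : Set X) := by
      refine ⟨G.mul_mem (G.inv_mem g.2) h.2, mem_centralizer_iff.2 fun v hv => ?_⟩
      have e := hgh (ψ (Additive.ofMul ⟨v, hv⟩))
      rw [hsmul, hsmul] at e
      have e' : (g : X) * v * (g : X)⁻¹ = (h : X) * v * (h : X)⁻¹ :=
        congrArg (fun a : Additive ↥V => ((Additive.toMul a : ↥V) : X)) (ψ.injective e)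
      calc v * ((g : X)⁻¹ * h) = (g : X)⁻¹ * ((g : X) * v * (g : X)⁻¹) * h := by group
        _ = (g : X)⁻¹ * ((h : X) * v * (h : X)⁻¹) * h := by rw [e']
        _ = (g : X)⁻¹ * h * v := by group
    rw [hfaith, mem_bot, inv_mul_eq_one] at hc
    exact Subtype.ext hc⟩
  have hinj : Function.Injective ρ := by
    rw [← MonoidHom.ker_eq_bot_iff, hρk, eq_bot_iff]
    intro l hl
    have h : (l : X) ∈ G ⊓ centralizer (V : Set X) := ⟨hLG l.2, hl⟩
    rw [hfaith, mem_bot] at h
    exact mem_bot.2 (Subtype.ext h)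
  let e : ↥L ≃* SL(2, F) := MulEquiv.ofBijective ρ ⟨hinj, hρs⟩
  let ι : SL(2, F) →* ↥G := (Subgroup.inclusion hLG).comp e.symm.toMonoidHom
  have hact' : ∀ (s : SL(2, F)) (w : Fin 2 → F),
      ι s • w = (s : Matrix (Fin 2) (Fin 2) F) *ᵥ w := by
    intro s w
    obtain ⟨v, rfl⟩ : ∃ v : ↥V, ψ (Additive.ofMul v) = w :=
      ⟨Additive.toMul (ψ.symm w), ψ.apply_symm_apply w⟩
    obtain ⟨u, hu, hu'⟩ := hact (e.symm s) v
    have hes : ρ (e.symm s) = s := e.apply_symm_apply s
    rw [hes] at hu'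
    rw [hsmul, ← hu']
    exact congrArg ψ (congrArg Additive.ofMul (Subtype.ext hu.symm))
  have hr : ι.range = L.subgroupOf G := by
    ext g
    constructor
    · rintro ⟨s, rfl⟩; exact (e.symm s).2
    · intro hg
      refine ⟨e ⟨g, hg⟩, Subtype.ext ?_⟩
      show ((e.symm (e ⟨g, hg⟩) : ↥L) : X) = g
      rw [e.symm_apply_apply]
  -- the Sylow subgroup
  set K : Subgroup ↥G := (G ⊓ normalizer (L : Set X)).subgroupOf G with hK
  have hUK : (uSL F).map ι ≤ K := by
    rintro _ ⟨s, -, rfl⟩
    exact ⟨(ι s).2, le_normalizer (e.symm s).2⟩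
  have hUp : IsPGroup p ((uSL F).map ι) := by
    obtain ⟨S, hS⟩ := exists_sylow_uSL (F := F) p
    exact (hS ▸ S.2).map ι
  obtain ⟨S, hS⟩ := (show IsPGroup p (((uSL F).map ι).subgroupOf K) from
    hUp.of_equiv (subgroupOfEquivOfLe hUK).symm).exists_le_sylow
  have hSp : IsPGroup p ((S : Subgroup ↥K).map K.subtype) := S.2.map _
  obtain ⟨P, hP⟩ := hSp.exists_le_sylow
  let eK : ↥K ≃* ↥(G ⊓ normalizer (L : Set X)) := subgroupOfEquivOfLe inf_le_left
  have hcard : Nat.card ↥((S : Subgroup ↥K).map K.subtype) = Nat.card P := by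
    rw [Subgroup.card_map_of_injective K.subtype_injective,
      ← hSyl (Sylow.mapSurjective (f := eK.toMonoidHom) eK.surjective S) P]
    exact (Subgroup.card_map_of_injective eK.injective).symm
  have hSP : (S : Subgroup ↥K).map K.subtype = P := Subgroup.eq_of_le_of_card_ge hP hcard.ge
  have hle : (uSL F).map ι ≤ (P : Subgroup ↥G) := by
    rw [← hSP]
    intro x hx
    exact ⟨⟨x, hUK hx⟩, hS hx, rfl⟩
  have hnrm : (P : Subgroup ↥G) ≤ normalizer (ι.range : Set ↥G) := by
    rw [← hSP]
    rintro _ ⟨⟨g, hgK⟩, -, rfl⟩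
    have hg : (g : X) ∈ normalizer (L : Set X) := hgK.2
    rw [mem_normalizer_iff]
    intro y
    simp only [hr, SetLike.mem_coe, mem_subgroupOf]
    exact mem_normalizer_iff.1 hg y
  let D : Emb p F ↥G := ⟨ι, hact', P, hle, hnrm⟩
  rw [← hr]
  exact normal_or_alt D

end CfsgLib.SLTwoEmb
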