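import Mathlib
import Cfsg.Agent.Lib.Classical.SLTwoSylow

/-!
# Semilinearity of the normalizer of a natural `SL₂(F)`
-/

set_option autoImplicit false

namespace CfsgLib.SLTwoEmb

open Matrix Subgroup CfsgLib.Classical
open scoped MatrixGroups

variable {F : Type*} [Field F] {G : Type*} [Group G] [DistribMulAction G (Fin 2 → F)]

/-- `g` acts `σ`-semilinearly. -/
def Semi (g : G) (σ : F ≃+* F) : Prop :=
  ∀ (c : F) (w : Fin 2 → F), g • c • w = σ c • g • w

theorem Semi.mul {g h : G} {σ τ : F ≃+* F} (hg : Semi g σ) (hh : Semi h τ) :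
    Semi (g * h) (τ.trans σ) := fun c w => by
  rw [mul_smul, mul_smul, hh, hg]; rfl

theorem Semi.one : Semi (1 : G) (RingEquiv.refl F) := fun c w => by simp

theorem Semi.unique {g : G} {σ τ : F ≃+* F} (hg : Semi g σ) (hg' : Semi g τ) : σ = τ := by
  refine RingEquiv.ext fun c => ?_
  have hne : g • (![1, 0] : Fin 2 → F) ≠ 0 := by
    intro h
    have h' : (![1, 0] : Fin 2 → F) = 0 := by
      rw [← inv_smul_smul g (![1, 0] : Fin 2 → F), h, smul_zero]
    simpa using congrFun h' 0
  exact smul_left_injective F hne ((hg c _).symm.trans (hg' c _))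

theorem Semi.inv {g : G} {σ : F ≃+* F} (hg : Semi g σ) : Semi g⁻¹ σ.symm := fun c w => by
  rw [inv_smul_eq_iff, hg, RingEquiv.apply_symm_apply, smul_inv_smul]

/-- An additive map commuting with `SL₂(F)` is a scalar. -/
theorem exists_scalar (f : (Fin 2 → F) →+ (Fin 2 → F))
    (hf : ∀ (s : SL(2, F)) w, f ((s : Matrix (Fin 2) (Fin 2) F) *ᵥ w) =
      (s : Matrix (Fin 2) (Fin 2) F) *ᵥ f w) :
    ∃ c : F, ∀ w, f w = c • w := by
  have hu : ∀ (t : F) w, f (w + ![t * w 1, 0]) = f w + ![t * f w 1, 0] := by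
    intro t w
    have h := hf (uElt t) w
    have e : ∀ v : Fin 2 → F, (uElt t : Matrix (Fin 2) (Fin 2) F) *ᵥ v = v + ![t * v 1, 0] := by
      intro v; funext i; fin_cases i <;> simp [uElt_val, Matrix.mulVec, dotProduct, Fin.sum_univ_two]
    rwa [e, e] at h
  have hl : ∀ (t : F) w, f (w + ![0, t * w 0]) = f w + ![0, t * f w 0] := by
    intro t w
    let s : SL(2, F) := ⟨!![1, 0; t, 1], by simp [det_fin_two]⟩
    have h := hf s w
    have e : ∀ v : Fin 2 → F, (s : Matrix (Fin 2) (Fin 2) F) *ᵥ v = v + ![0, t * v 0] := by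
      intro v; funext i
      fin_cases i <;> simp [s, Matrix.mulVec, dotProduct, Fin.sum_univ_two, add_comm]
    rwa [e, e] at h
  have h0 : ∀ t, f ![t, 0] = ![t * f ![0, 1] 1, 0] := fun t => by
    have h := hu t ![0, 1]
    rw [map_add] at h
    simpa using add_left_cancel h
  have h1 : ∀ t, f ![0, t] = ![0, t * f ![1, 0] 0] := fun t => by
    have h := hl t ![1, 0]
    rw [map_add] at h
    simpa using add_left_cancel h
  have hc : f ![1, 0] 0 = f ![0, 1] 1 := by rw [h0]; simp
  refine ⟨f ![0, 1] 1, fun w => ?_⟩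
  have e : w = ![w 0, 0] + ![0, w 1] := by funext i; fin_cases i <;> simp
  conv_lhs => rw [e, map_add, h0 (w 0), h1 (w 1), hc]
  funext i; fin_cases i <;> simp [mul_comm]

/-- Elements normalizing a natural `SL₂(F)` are semilinear. -/
theorem exists_semi [Finite F] (ι : SL(2, F) →* G)
    (act : ∀ (s : SL(2, F)) (w : Fin 2 → F), ι s • w = (s : Matrix (Fin 2) (Fin 2) F) *ᵥ w)
    {g : G} (hg : g ∈ normalizer (ι.range : Set G)) : ∃ σ : F ≃+* F, Semi g σ := by
  have hc : ∀ c : F, ∃ d : F, ∀ w : Fin 2 → F, g • c • g⁻¹ • w = d • w := by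
    intro c
    refine exists_scalar
      (AddMonoidHom.mk' (fun w : Fin 2 → F => g • c • g⁻¹ • w)
        (fun v w => by simp only [smul_add])) ?_
    intro s w
    show g • c • g⁻¹ • ((s : Matrix (Fin 2) (Fin 2) F) *ᵥ w) =
      (s : Matrix (Fin 2) (Fin 2) F) *ᵥ (g • c • g⁻¹ • w)
    obtain ⟨s', hs'⟩ : g⁻¹ * ι s * g ∈ ι.range := by
      have h := (mem_normalizer_iff.1 (inv_mem hg) (ι s)).1 ⟨s, rfl⟩
      rwa [inv_inv] at h
    rw [← act, ← act, smul_smul g⁻¹ (ι s), show g⁻¹ * ι s = ι s' * g⁻¹ by rw [hs']; group,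
      mul_smul (ι s'), act, ← Matrix.mulVec_smul, ← act, ← mul_smul g (ι s'),
      show g * ι s' = ι s * g by rw [hs']; group, mul_smul (ι s)]
  choose d hd using hc
  have hd' : ∀ c w, g • c • w = d c • g • w := fun c w => by
    have h := hd c (g • w); rwa [inv_smul_smul] at h
  have hu : ∀ {a b : F}, (∀ w : Fin 2 → F, a • w = b • w) → a = b := fun h => by
    simpa using congrFun (h ![1, 0]) 0
  have dadd : ∀ a b, d (a + b) = d a + d b := fun a b => hu fun w => by
    rw [← hd, add_smul, smul_add, hd, hd, add_smul]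
  have dmul : ∀ a b, d (a * b) = d a * d b := fun a b => hu fun w => by
    rw [← hd, mul_smul, hd', hd, mul_smul]
  have done' : d 1 = 1 := hu fun w => by rw [← hd, one_smul, smul_inv_smul, one_smul]
  let f : F →+* F :=
    { toFun := d
      map_one' := done'
      map_mul' := dmul
      map_zero' := hu fun w => by rw [← hd, zero_smul, smul_zero, zero_smul]
      map_add' := dadd }
  refine ⟨RingEquiv.ofBijective f ((Finite.injective_iff_bijective).1 f.injective), fun c w => ?_⟩
  exact hd' c w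

/-- Two non-trivial involutory automorphisms of a finite field coincide. -/
theorem invol_unique [Finite F] {σ τ : F ≃+* F} (hσ : ∀ x, σ (σ x) = x) (hτ : ∀ x, τ (τ x) = x)
    (hσ1 : σ ≠ RingEquiv.refl F) (hτ1 : τ ≠ RingEquiv.refl F) : σ = τ := by
  classical
  haveI := Fintype.ofFinite F
  haveI : CharP F (ringChar F) := ringChar.charP F
  haveI : Fact (Nat.Prime (ringChar F)) := ⟨CharP.char_is_prime F _⟩
  letI := ZMod.algebra F (ringChar F)
  let toAlg : (F ≃+* F) → (F ≃ₐ[ZMod (ringChar F)] F) := fun σ =>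
    AlgEquiv.ofRingEquiv (f := σ) (fun x =>
      RingHom.congr_fun (RingHom.ext_zmod
        ((σ : F →+* F).comp (algebraMap (ZMod (ringChar F)) F)) (algebraMap _ F)) x)
  have hinj : Function.Injective toAlg := fun a b h => RingEquiv.ext fun x => by
    exact AlgEquiv.congr_fun h x
  have hsq : ∀ ρ : F ≃+* F, (∀ x, ρ (ρ x) = x) → toAlg ρ ^ 2 = 1 := fun ρ h =>
    AlgEquiv.ext fun x => by rw [sq]; exact h x
  have h1 : toAlg (RingEquiv.refl F) = 1 := AlgEquiv.ext fun _ => rfl
  by_contra hne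
  haveI : IsCyclic (F ≃ₐ[ZMod (ringChar F)] F) := inferInstance
  have h3 : ({1, toAlg σ, toAlg τ} : Finset (F ≃ₐ[ZMod (ringChar F)] F)) ⊆
      Finset.univ.filter (fun a => a ^ 2 = 1) := by
    intro a ha
    simp only [Finset.mem_insert, Finset.mem_singleton] at ha
    rcases ha with rfl | rfl | rfl <;> simp [hsq _ hσ, hsq _ hτ]
  have h4 := (Finset.card_le_card h3).trans (IsCyclic.card_pow_eq_one_le (by norm_num : 0 < 2))
  rw [Finset.card_insert_of_notMem (by
      simp only [Finset.mem_insert, Finset.mem_singleton, ← h1, not_or]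
      exact ⟨fun h => hσ1 (hinj h).symm, fun h => hτ1 (hinj h).symm⟩),
    Finset.card_pair (fun h => hne (hinj h))] at h4
  omega

/-- The fixed field of a non-trivial automorphism is small. -/
theorem fix_sq_le [Finite F] {σ : F ≃+* F} (hσ : σ ≠ RingEquiv.refl F) :
    {c : F | σ c = c}.ncard ^ 2 ≤ Nat.card F := by
  obtain ⟨θ, hθ⟩ : ∃ θ, σ θ ≠ θ := by
    by_contra h
    simp only [not_exists, ne_eq, not_not] at h
    exact hσ (RingEquiv.ext fun x => by simp [h x])
  rw [sq, ← Nat.card_coe_set_eq, ← Nat.card_prod]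
  refine Nat.card_le_card_of_injective
    (fun x : {c : F | σ c = c} × {c : F | σ c = c} => (x.1 : F) + x.2 * θ) ?_
  rintro ⟨⟨a, ha⟩, ⟨b, hb⟩⟩ ⟨⟨c, hc⟩, ⟨d, hd⟩⟩ h
  simp only [Set.mem_setOf_eq] at ha hb hc hd
  simp only at h
  have h' := congrArg σ h
  simp only [map_add, map_mul, ha, hb, hc, hd] at h'
  have hbd : b = d := by
    have : (b - d) * (σ θ - θ) = 0 := by linear_combination h' - h
    rcases mul_eq_zero.1 this with h1 | h1
    · exact sub_eq_zero.1 h1
    · exact absurd (sub_eq_zero.1 h1) hθ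
  have hac : a = c := by rw [hbd] at h; exact add_right_cancel h
  simp [hbd, hac]

end CfsgLib.SLTwoEmb
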